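import Groth.Agent.HenselLib.Henselization
import Mathlib.RingTheory.Etale.Basic
import Mathlib.Algebra.Polynomial.Identities

/-! The henselization is formally étale. -/

set_option autoImplicit false
universe u

noncomputable section

namespace HenselLib

theorem isUnit_of_mk {B : Type u} [CommRing B] {I : Ideal B} (hI : I ^ 2 = ⊥) {x : B}
    (h : IsUnit (Ideal.Quotient.mk I x)) : IsUnit x := by
  obtain ⟨c, hc⟩ := h.exists_right_inv
  obtain ⟨c, rfl⟩ := Ideal.Quotient.mk_surjective c
  rw [← map_mul, ← map_one (Ideal.Quotient.mk I), Ideal.Quotient.eq] at hc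
  have hnil : IsNilpotent (x * c - 1) := ⟨2, by
    rw [← Ideal.mem_bot, ← hI]; exact Ideal.pow_mem_pow hc 2⟩
  exact isUnit_of_mul_isUnit_left (y := c) (by simpa using hnil.isUnit_one_add)

theorem formallyEtale_next {A : Type u} [CommRing A] [IsLocalRing A] {Ω : Type u} [Field Ω] (θ : A →+* Ω) :
    Algebra.FormallyEtale A (Step.Next θ) := by
  classical
  rw [Algebra.FormallyEtale.iff_comp_bijective]
  intro B _ _ I hI
  have hsq : ∀ a ∈ I, a ^ 2 = 0 := fun a ha => by
    rw [← Ideal.mem_bot, ← hI]; exact Ideal.pow_mem_pow ha 2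
  constructor
  · intro g₁ g₂ h
    have h' : ∀ x, g₁ x - g₂ x ∈ I := fun x => Ideal.Quotient.eq.1 (AlgHom.congr_fun h x)
    have hroot : ∀ i, g₁ (Step.root θ i) = g₂ (Step.root θ i) := by
      intro i
      obtain ⟨k, hk⟩ :=
        (i.1.1.map (algebraMap A B)).binomExpansion (g₂ (Step.root θ i)) (g₁ (Step.root θ i) - g₂ (Step.root θ i))
      have e : ∀ (g : Step.Next θ →ₐ[A] B) (p : Polynomial A),
          (p.map (algebraMap A B)).eval (g (Step.root θ i)) = g (Polynomial.aeval (Step.root θ i) p) := fun g p => by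
        rw [Polynomial.eval_map, ← Polynomial.aeval_def, Polynomial.aeval_algHom_apply]
      rw [add_sub_cancel, e, e, Step.aeval_root, map_zero, map_zero, Polynomial.derivative_map, e,
        hsq _ (h' _), mul_zero, add_zero, zero_add, eq_comm] at hk
      exact sub_eq_zero.1 (((Step.isUnit_derivative_root θ i).map g₂).mul_right_eq_zero.1 hk)
    have hπ : g₁.comp (Step.π θ) = g₂.comp (Step.π θ) := MvPolynomial.algHom_ext fun i => hroot i
    refine AlgHom.coe_ringHom_injective (IsLocalization.ringHom_ext (Step.q θ).primeCompl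
      (Ideal.Quotient.ringHom_ext (RingHom.ext fun P => ?_)))
    exact AlgHom.congr_fun hπ P
  · intro f
    have hy : ∀ i, ∃ y : B, Ideal.Quotient.mk I y = f (Step.root θ i) ∧ Polynomial.aeval y i.1.1 = 0 := by
      intro i
      obtain ⟨y, hy⟩ := Ideal.Quotient.mk_surjective (f (Step.root θ i))
      have e : ∀ p : Polynomial A, Ideal.Quotient.mk I (Polynomial.aeval y p) = f (Polynomial.aeval (Step.root θ i) p) := by
        intro p
        rw [← Ideal.Quotient.mkₐ_eq_mk A, ← Polynomial.aeval_algHom_apply, ← Polynomial.aeval_algHom_apply,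
          Ideal.Quotient.mkₐ_eq_mk, hy]
      have h0 : Polynomial.aeval y i.1.1 ∈ I := by
        rw [← Ideal.Quotient.eq_zero_iff_mem, e, Step.aeval_root, map_zero]
      obtain ⟨v, hv⟩ := isUnit_of_mk hI (x := Polynomial.aeval y i.1.1.derivative)
        (by rw [e]; exact (Step.isUnit_derivative_root θ i).map f)
      obtain ⟨k, hk⟩ := (i.1.1.map (algebraMap A B)).binomExpansion y (-(↑v⁻¹ * Polynomial.aeval y i.1.1))
      refine ⟨y + -(↑v⁻¹ * Polynomial.aeval y i.1.1), ?_, ?_⟩
      · rw [map_add, hy, Ideal.Quotient.eq_zero_iff_mem.2 (neg_mem (I.mul_mem_left _ h0)), add_zero]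
      · have h2 : (-((↑v⁻¹ : B) * Polynomial.aeval y i.1.1)) ^ 2 = 0 := hsq _ (neg_mem (I.mul_mem_left _ h0))
        rw [Polynomial.derivative_map, h2, mul_zero, add_zero] at hk
        simp only [Polynomial.eval_map, ← Polynomial.aeval_def] at hk
        rw [hk, ← hv, mul_neg, Units.mul_inv_cancel_left, add_neg_cancel]
    choose y hy hy0 using hy
    let g₀ : Step.Pre θ →ₐ[A] B := Ideal.Quotient.liftₐ _ (MvPolynomial.aeval y) fun P hP => by
      refine (Ideal.span_le.2 ?_ : Ideal.span (Set.range (Step.rel θ)) ≤ RingHom.ker (MvPolynomial.aeval y)) hP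
      rintro _ ⟨i, rfl⟩
      show MvPolynomial.aeval y (Step.rel θ i) = 0
      rw [Step.rel, ← Polynomial.aeval_algHom_apply, MvPolynomial.aeval_X, hy0]
    have hg₀ : ∀ t, Ideal.Quotient.mk I (g₀ t) = f (algebraMap (Step.Pre θ) (Step.Next θ) t) := by
      intro t
      obtain ⟨P, rfl⟩ := Ideal.Quotient.mk_surjective t
      show ((Ideal.Quotient.mkₐ A I).comp (MvPolynomial.aeval y)) P = (f.comp (Step.π θ)) P
      congr 1
      exact MvPolynomial.algHom_ext fun i => by simp [hy, Step.π_X]
    let g : Step.Next θ →ₐ[A] B := IsLocalization.liftAlgHom (M := (Step.q θ).primeCompl) (f := g₀)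
      fun s => isUnit_of_mk hI (by rw [hg₀]; exact (IsLocalization.map_units _ s).map f)
    refine ⟨g, AlgHom.coe_ringHom_injective (IsLocalization.ringHom_ext (Step.q θ).primeCompl (RingHom.ext fun t => ?_))⟩
    show Ideal.Quotient.mk I (g (algebraMap (Step.Pre θ) (Step.Next θ) t)) = _
    rw [show g (algebraMap (Step.Pre θ) (Step.Next θ) t) = g₀ t from IsLocalization.lift_eq _ t]
    exact hg₀ t

variable {R : Type u} [CommRing R] [IsLocalRing R] {Ω : Type u} [Field Ω] {θ₀ : R →+* Ω}
  (hθ₀ : RingHom.ker θ₀ = IsLocalRing.maximalIdeal R)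

theorem formallyEtale_stage (n : ℕ) : Algebra.FormallyEtale R (G hθ₀ n) := by
  induction n with
  | zero =>
    show Algebra.FormallyEtale R R
    infer_instance
  | succ n ih =>
    show Algebra.FormallyEtale R (Step.Next (seq hθ₀ n).θ)
    have := formallyEtale_next (seq hθ₀ n).θ
    exact Algebra.FormallyEtale.comp R (G hθ₀ n) _

/-- The henselization is formally étale. -/
theorem formallyEtale_hens : Algebra.FormallyEtale R (Hens hθ₀) := by
  rw [Algebra.FormallyEtale.iff_comp_bijective]
  intro B _ _ I hI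
  have hst := fun n => (Algebra.FormallyEtale.iff_comp_bijective.1 (formallyEtale_stage hθ₀ n)) I hI
  constructor
  · intro g₁ g₂ h
    refine AlgHom.ext fun z => ?_
    obtain ⟨n, x, rfl⟩ := exists_of hθ₀ z
    exact AlgHom.congr_fun ((hst n).1 (a₁ := g₁.comp (of hθ₀ n)) (a₂ := g₂.comp (of hθ₀ n))
      (AlgHom.ext fun x => AlgHom.congr_fun h (of hθ₀ n x))) x
  · intro f
    choose g hg using fun n => (hst n).2 (f.comp (of hθ₀ n))
    have hc : ∀ n m (h : n ≤ m), (g m).comp (tr hθ₀ n m h) = g n := fun n m h => (hst n).1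
      (AlgHom.ext fun x => (AlgHom.congr_fun (hg m) (tr hθ₀ n m h x)).trans
        ((congrArg f (of_tr hθ₀ h x)).trans (AlgHom.congr_fun (hg n) x).symm))
    let φ : Hens hθ₀ → B := DirectLimit.lift _ (fun n x => g n x) fun n m h x => (AlgHom.congr_fun (hc n m h) x).symm
    have hφ : ∀ n x, φ (of hθ₀ n x) = g n x := fun n x => rfl
    refine ⟨{ toFun := φ, map_one' := ?_, map_mul' := ?_, map_zero' := ?_, map_add' := ?_, commutes' := ?_ },
      AlgHom.ext fun z => ?_⟩
    · rw [← map_one (of hθ₀ 0), hφ, map_one]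
    · intro a b
      obtain ⟨n, x, y, rfl, rfl⟩ := exists_of₂ hθ₀ a b
      rw [← map_mul, hφ, hφ, hφ, map_mul]
    · rw [← map_zero (of hθ₀ 0), hφ, map_zero]
    · intro a b
      obtain ⟨n, x, y, rfl, rfl⟩ := exists_of₂ hθ₀ a b
      rw [← map_add, hφ, hφ, hφ, map_add]
    · intro r
      rw [← (of hθ₀ 0).commutes r, hφ, AlgHom.commutes]
    · obtain ⟨n, x, rfl⟩ := exists_of hθ₀ z
      exact AlgHom.congr_fun (hg n) x

end HenselLib
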